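import Cfsg.Agent.H811.BG.Tool
import Cfsg.Agent.H993.AbTool
import Cfsg.Agent.H845.HNNineteen
import Cfsg.Agent.NotCT.Orders
import Cfsg.Agent.S1701
import Cfsg.Agent.S2082

/-!
# Abelian regular subgroups: `HN` (S3561, helper811)
-/

set_option autoImplicit false

namespace Cfsg.Agent.H811.BG

open Cfsg Subgroup
open Cfsg.Agent.OrdDiv Cfsg.Agent.H57.BG
open Cfsg.Agent.H257.El (Known okPow okPow_spec okPair surv Top noOrd_of_cent noOrd_congr card_quot_mul)

universe u

theorem row_hn (tab : OrderTable.{u}) (known : Known.{u}) {T : Type u} [Group T] (h : Spor.IsoHN T) : Row T := by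
  have hn : Nat.card T = 273030912000000 := NotCT.Orders.hn h
  have : Finite T := Nat.finite_of_card_ne_zero (by rw [hn]; norm_num)
  have hs : IsSimpleGroup T := by
    obtain ⟨e⟩ := h
    have : IsSimpleGroup Spor.HN := S1701.result.1
    exact e.isSimpleGroup
  have hc : center T = ⊥ := center_bot (by rw [hn]; norm_num)
  have hi : (Inn T).index = 2 := by
    obtain ⟨e⟩ := h
    exact inn_index e S2082.result
  have c19 : ∀ x : T, orderOf x = 19 → Nat.card (centralizer ({x} : Set T)) = 19 := by
    intro x hx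
    obtain ⟨e⟩ := h
    have hfin : Finite Spor.HN := Finite.of_equiv T e.toEquiv
    obtain ⟨y, hy, hcy⟩ := H845.HNNineteen.hn_nineteen
    rw [← H993.AbTool.card_cent_equiv' e x, ← hcy]
    refine H729.PairBase.card_cent_of_one (r := 19) (by norm_num) ?_ hy (by rw [MulEquiv.orderOf_eq, hx])
    rw [← Nat.card_congr e.toEquiv, hn]
    norm_num
  have hno : ∀ p : ℕ, p.Prime → 19 ≠ p → ∀ z : T, orderOf z ≠ 19 * p := fun p hp h19 =>
    noOrd_of_cent (by norm_num) c19 hp h19
  intro A L hR
  obtain ⟨O, hO, N, hT, g, hg, -, hcard, -, hidx⟩ := hR.exists_name tab known (r := 19)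
    (l := [(2, 14), (3, 6), (5, 6), (7, 1), (11, 1), (19, 1)]) hn (by decide +kernel) (by norm_num) (by norm_num)
    (by norm_num) [7, 11] (by simp) (fun s hs => by
      rw [List.mem_cons, List.mem_singleton] at hs
      rcases hs with rfl | rfl
      · exact ⟨by norm_num, ⟨by norm_num, by norm_num⟩, hno _ (by norm_num) (by norm_num), by decide +kernel⟩
      · exact ⟨by norm_num, ⟨by norm_num, by norm_num⟩, hno _ (by norm_num) (by norm_num), by decide +kernel⟩)
  have hsurv : (surv 273030912000000 [(2, 14), (3, 6), (5, 6), (7, 1), (11, 1), (19, 1)] 19 [7, 11]).all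
      (fun g => ordN g == 175560) = true := by decide +kernel
  rw [List.all_eq_true] at hsurv
  have h3 : ordN g = 175560 := by simpa using hsurv g hg
  rw [h3] at hcard
  have hmul : Nat.card L * L.index = 273030912000000 := by rw [L.card_mul_index, hn]
  have hLn : Nat.card L ∣ 273030912000000 := Dvd.intro _ hmul
  have hnoL : ∀ p : ℕ, p.Prime → 19 ≠ p → ∀ z : L, orderOf z ≠ 19 * p := fun p hp h19 z => by
    rw [← Subgroup.orderOf_coe]
    exact hno p hp h19 z
  -- the core is trivial
  have hO1 : Nat.card O = 1 := by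
    by_contra hne
    obtain ⟨s, hs, hd⟩ := Nat.exists_prime_and_dvd hne
    have h19 : 19 ≠ s := by
      rintro rfl
      exact hT.core hd
    refine hT.not_dvd_core hs h19 (hnoL s hs h19) (fun b hb hd => ?_) hd
    have hsn : s ∣ 273030912000000 := ((dvd_pow_self s (by omega)).trans hd).trans hLn
    obtain ⟨k, hk, -⟩ := OrdDiv.exists_pair
      (l := [(2, 14), (3, 6), (5, 6), (7, 1), (11, 1), (19, 1)]) (N := 273030912000000) (by decide +kernel) hs
      (j := 1) le_rfl (by rwa [pow_one])
    have hall : ∀ x ∈ [(2, 14), (3, 6), (5, 6), (7, 1), (11, 1), (19, 1)], x.1 = 19 ∨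
        okPow [(2, 14), (3, 6), (5, 6), (7, 1), (11, 1), (19, 1)] 19 x.1 = true := by decide +kernel
    have hok := (hall _ hk).resolve_left (fun h => h19 h.symm)
    exact okPow_spec (l := [(2, 14), (3, 6), (5, 6), (7, 1), (11, 1), (19, 1)]) (n := 273030912000000)
      (by decide +kernel) hok hs hb (hd.trans hLn)
  -- the order of `L`
  have h4 := hT.index_mul_dvd hnoL (by rw [hcard]; norm_num)
  rw [hcard] at h4
  have h5 : N.index ≤ 3 := by
    have h6 : N.index * 6 ∣ 18 := h4
    have := Nat.le_of_dvd (by norm_num) h6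
    omega
  have h6 : Nat.card L ≤ 526680 := by
    rw [← card_quot_mul O, hO1, mul_one, ← N.card_mul_index, hcard]
    omega
  have h7 : 518400000 ≤ L.index := by
    by_contra hcon
    push Not at hcon
    have h8 : Nat.card L * L.index ≤ 526680 * 518399999 := Nat.mul_le_mul h6 (by omega)
    rw [hmul] at h8
    norm_num at h8
  -- the abelian subgroup
  have h8 : L.index ≤ Nat.card (inner A) * 2 := by
    have := hR.index_dvd hc
    rw [hi] at this
    exact Nat.le_of_dvd (by have : 0 < Nat.card (inner A) := Nat.card_pos; omega) this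
  have h9 : H498.Ab.AbLE 16523647 T := by
    refine H993.AbTool.abLE_of_normal (l := 1) (fun M hM hab => ?_) (by rw [hn]; norm_num)
    rcases hM.eq_bot_or_eq_top with h | h
    · rw [h, card_bot]
    · exfalso
      have h10 : center T = ⊤ := by
        rw [eq_top_iff]
        intro x _
        rw [mem_center_iff]
        intro y
        exact hab y (h ▸ mem_top y) x (h ▸ mem_top x)
      rw [hc] at h10
      have h11 : Nat.card T = 1 := by
        rw [← Subgroup.card_top, ← h10, card_bot]
      rw [hn] at h11
      norm_num at h11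
  have h10 := h9 (inner A) ⟨⟨fun x y => Subtype.ext (hR.inner_comm hc x.2 y.2)⟩⟩
  omega

end Cfsg.Agent.H811.BG
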