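import Cfsg.Agent.H811.BG.Tool
import Cfsg.Agent.H393.Iso.J23
import Cfsg.Agent.J2Type.FiveFus
import Cfsg.Agent.KFacts.J2.Facts
import Cfsg.Agent.H846.PB.HS
import Cfsg.Agent.H904.HSIso
import Cfsg.Agent.H419.Spor.HS
import Cfsg.Agent.NotCT.Orders
import Cfsg.Agent.S1620
import Cfsg.Agent.S2066
import Cfsg.Agent.S2072

/-!
# Abelian regular subgroups: `J₂` and `HS` (S3561, helper811)
-/

set_option autoImplicit false

namespace Cfsg.Agent.H811.BG

open Cfsg Subgroup
open Cfsg.Agent.OrdDiv Cfsg.Agent.H57.BG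
open Cfsg.Agent.H257.El (Known okPow okPair surv Top noOrd_of_cent noOrd_congr)

universe u

theorem row_j2 {T : Type u} [Group T] (h : Spor.IsoJ2 T) : Row T := by
  have hn : Nat.card T = 604800 := NotCT.Orders.j2 h
  have : Finite T := Nat.finite_of_card_ne_zero (by rw [hn]; norm_num)
  have hs : IsSimpleGroup T := by
    obtain ⟨e⟩ := h
    have : IsSimpleGroup Spor.J2 := S1620.result.1
    exact e.isSimpleGroup
  have hc : center T = ⊥ := center_bot (by rw [hn]; norm_num)
  have hi : (Inn T).index = 2 := by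
    obtain ⟨e⟩ := h
    exact inn_index e S2066.result
  intro A L hR
  have hidx : L.index ∣ 604800 := by rw [← hn]; exact Subgroup.index_dvd_card L
  -- an involution in `A₀`
  have four : 2 ^ 2 ∣ L.index → ∀ m, m ∣ L.index → (3840 % m ≠ 0) → (480 % m ≠ 0) → False := by
    intro h4 m hm h1 h2
    obtain ⟨z, -, hz, hd⟩ := cent hR hc Nat.prime_two h4 (by rw [hi]; norm_num)
    rw [hi] at hd
    rcases H393.Iso.j2_card h hz with hz' | hz' <;> rw [hz'] at hd
    · exact h1 (Nat.mod_eq_zero_of_dvd (hm.trans hd))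
    · exact h2 (Nat.mod_eq_zero_of_dvd (hm.trans hd))
  -- a Sylow 5-subgroup in `A₀`
  have five : 5 ^ 2 ∣ L.index → ¬ 3 ^ 2 ∣ L.index := by
    intro h5 h3
    have h5L : ¬ 5 ∣ Nat.card L := by
      intro hd
      have h6 : 5 * 5 ^ 2 ∣ Nat.card L * L.index := Nat.mul_dvd_mul hd h5
      rw [L.card_mul_index, hn] at h6
      norm_num at h6
    obtain ⟨P, hP⟩ := hR.exists_sylow_le hc Nat.prime_five h5L (by rw [hi]; norm_num)
    have h6 := hR.index_dvd_cent hc (X := ((P : Subgroup T) : Set T)) hP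
    obtain ⟨z, u, Q, v, ρ, D⟩ := KFacts.J2.Facts.exists_dat_of h
    obtain ⟨hcP, hP25, -⟩ := J2Type.FiveFus.sylow_five D.F P
    rw [hcP, hP25, hi] at h6
    have := h3.trans h6
    norm_num at this
  obtain ⟨r, s, hrs, hr2, hs2, ⟨k, hk, hk2⟩, ⟨j, hj, hj2⟩⟩ := two_sq hR
    (l := [(2, 7), (3, 3), (5, 2), (7, 1)]) (n := 604800) (by decide +kernel) hidx
  simp only [List.mem_cons, List.not_mem_nil, or_false, Prod.mk.injEq] at hk hj
  rcases hk with ⟨rfl, rfl⟩ | ⟨rfl, rfl⟩ | ⟨rfl, rfl⟩ | ⟨rfl, rfl⟩ <;>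
    rcases hj with ⟨rfl, rfl⟩ | ⟨rfl, rfl⟩ | ⟨rfl, rfl⟩ | ⟨rfl, rfl⟩ <;>
    first
      | exact absurd rfl hrs
      | omega
      | exact four hr2 _ hs2 (by norm_num) (by norm_num)
      | exact four hs2 _ hr2 (by norm_num) (by norm_num)

theorem row_hs (tab : OrderTable.{u}) (known : Known.{u}) {T : Type u} [Group T] (h : Spor.IsoHS T) : Row T := by
  have hn : Nat.card T = 44352000 := NotCT.Orders.hs h
  have : Finite T := Nat.finite_of_card_ne_zero (by rw [hn]; norm_num)
  have hs : IsSimpleGroup T := by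
    obtain ⟨e⟩ := h
    have : IsSimpleGroup Spor.HS := H419.Spor.HS.facts.1
    exact e.isSimpleGroup
  have hc : center T = ⊥ := center_bot (by rw [hn]; norm_num)
  have hi : (Inn T).index = 2 := by
    obtain ⟨e⟩ := h
    exact inn_index e S2072.result
  have hno : ∀ z : T, orderOf z ≠ 11 * 7 :=
    noOrd_of_cent (by norm_num) (fun x hx => H904.HSIso.card_eleven h hx) (by norm_num) (by norm_num)
  intro A L hR
  obtain ⟨O, hO, N, -, g, hg, -, -, -, hidx⟩ := hR.exists_name tab known (r := 11)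
    (l := [(2, 9), (3, 2), (5, 3), (7, 1), (11, 1)]) hn (by decide +kernel) (by norm_num) (by norm_num) (by norm_num)
    [7] (by simp) (fun s hs => by
      rw [List.mem_singleton] at hs
      subst hs
      exact ⟨by norm_num, ⟨by norm_num, by norm_num⟩, hno, by decide +kernel⟩)
  have hsurv : (surv 44352000 [(2, 9), (3, 2), (5, 3), (7, 1), (11, 1)] 11 [7]).all
      (fun g => 44352000 / ordN g == 100) = true := by decide +kernel
  rw [List.all_eq_true] at hsurv
  have h100 : 44352000 / ordN g = 100 := by simpa using hsurv g hg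
  rw [h100] at hidx
  have four : 2 ^ 2 ∣ L.index → 5 ^ 2 ∣ L.index → False := by
    intro h4 h25
    obtain ⟨z, -, hz, hd⟩ := cent hR hc Nat.prime_two h4 (by rw [hi]; norm_num)
    rw [hi] at hd
    have hd' := h25.trans hd
    rcases H846.PB.hs_inv h hz with hz' | hz' <;> rw [hz'] at hd' <;> norm_num at hd'
  obtain ⟨r, s, hrs, hr2, hs2, ⟨k, hk, hk2⟩, ⟨j, hj, hj2⟩⟩ := two_sq hR
    (l := [(2, 2), (5, 2)]) (n := 100) (by decide +kernel) hidx
  simp only [List.mem_cons, List.not_mem_nil, or_false, Prod.mk.injEq] at hk hj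
  rcases hk with ⟨rfl, rfl⟩ | ⟨rfl, rfl⟩ <;>
    rcases hj with ⟨rfl, rfl⟩ | ⟨rfl, rfl⟩ <;>
    first
      | exact absurd rfl hrs
      | exact four hr2 hs2
      | exact four hs2 hr2

end Cfsg.Agent.H811.BG
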