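import Cfsg.Agent.H904.El.McL
import Cfsg.Agent.S2505

/-!
# Abelian subgroups of the McLaughlin group (helper811, for S3561)

* `embed` : two commuting subgroups `E`, `B` of coprime orders of a permutation group, `E` semiregular: `B` acts
  faithfully on the orbits of `E`;
* `cent_le` : an element of order 5 of `McL` with a fixed point on the 275 points has `|C(y)| ≤ 50`;
* `no_2025` : an abelian subgroup of `McL` has order not divisible by 2025.
-/

set_option autoImplicit false

namespace Cfsg.Agent.H811.BG.McLAb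

open Cfsg Cfsg.Agent.OrdDiv Cfsg.Agent.H257.El Cfsg.Agent.H396
open Cfsg.Agent.SporadicA.PermTab Cfsg.Agent.McLType.X275 Cfsg.Agent.McLType.Gens Cfsg.Agent.H904.CentChk
open Cfsg.Agent.H904.McLCent Cfsg.Agent.H904.El.McL Subgroup Equiv
open Cfsg.Agent.SporadicStructure.PermChain (MaskIn maskIn_grow maskIn_single allBelow allBelow_spec)

universe u

section embed

theorem inv_ap {X : Type*} (f : Perm X) (i : X) : f⁻¹ (f i) = i := Equiv.symm_apply_apply f i

variable {G : Type*} [Group G] {X : Type*} (θ : G →* Perm X) (E B : Subgroup G)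

/-- the orbits of `E` -/
def orbS : Setoid X where
  r i j := ∃ e ∈ E, θ e i = j
  iseqv :=
    { refl := fun i => ⟨1, E.one_mem, by rw [map_one, Perm.one_apply]⟩
      symm := by
        rintro i j ⟨e, he, rfl⟩
        exact ⟨e⁻¹, E.inv_mem he, by rw [map_inv, inv_ap]⟩
      trans := by
        rintro i j k ⟨e, he, rfl⟩ ⟨f, hf, rfl⟩
        exact ⟨f * e, E.mul_mem hf he, by rw [map_mul, Perm.mul_apply]⟩ }

variable {θ E B}

/-- the action on the orbits -/
def mapQ (hc : ∀ e ∈ E, ∀ b ∈ B, b * e = e * b) (b : B) : Quotient (orbS θ E) → Quotient (orbS θ E) :=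
  Quotient.map (fun i => θ b i) (by
    rintro i _ ⟨e, he, rfl⟩
    exact ⟨e, he, by rw [← Perm.mul_apply, ← map_mul, ← hc e he b b.2, map_mul, Perm.mul_apply]⟩)

theorem mapQ_mk (hc : ∀ e ∈ E, ∀ b ∈ B, b * e = e * b) (b : B) (i : X) :
    mapQ (θ := θ) hc b (Quotient.mk _ i) = Quotient.mk _ (θ b i) := rfl

/-- the permutations of the orbits -/
def permQ (hc : ∀ e ∈ E, ∀ b ∈ B, b * e = e * b) : B →* Perm (Quotient (orbS θ E)) where
  toFun b :=
    { toFun := mapQ hc b
      invFun := mapQ hc b⁻¹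
      left_inv := by
        intro q
        obtain ⟨i, rfl⟩ := Quotient.exists_rep q
        rw [mapQ_mk, mapQ_mk]
        congr 1
        rw [← Perm.mul_apply, ← map_mul, ← Subgroup.coe_mul, inv_mul_cancel, Subgroup.coe_one, map_one, Perm.one_apply]
      right_inv := by
        intro q
        obtain ⟨i, rfl⟩ := Quotient.exists_rep q
        rw [mapQ_mk, mapQ_mk]
        congr 1
        rw [← Perm.mul_apply, ← map_mul, ← Subgroup.coe_mul, mul_inv_cancel, Subgroup.coe_one, map_one,
          Perm.one_apply] }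
  map_one' := by
    ext q
    obtain ⟨i, rfl⟩ := Quotient.exists_rep q
    show mapQ hc 1 (Quotient.mk _ i) = Quotient.mk _ i
    rw [mapQ_mk, Subgroup.coe_one, map_one, Perm.one_apply]
  map_mul' a b := by
    ext q
    obtain ⟨i, rfl⟩ := Quotient.exists_rep q
    show mapQ hc (a * b) (Quotient.mk _ i) = mapQ hc a (mapQ hc b (Quotient.mk _ i))
    rw [mapQ_mk, mapQ_mk, mapQ_mk, Subgroup.coe_mul, map_mul, Perm.mul_apply]

theorem pow_agree (hc : ∀ e ∈ E, ∀ b ∈ B, b * e = e * b) {e b : G} (he : e ∈ E) (hb : b ∈ B) {i : X}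
    (h : θ b i = θ e i) (k : ℕ) : θ (b ^ k) i = θ (e ^ k) i := by
  induction k with
  | zero => rw [pow_zero, pow_zero]
  | succ k ih =>
    rw [pow_succ', map_mul, Perm.mul_apply, ih, ← Perm.mul_apply, ← map_mul, hc (e ^ k) (E.pow_mem he k) b hb, map_mul,
      Perm.mul_apply, h, ← Perm.mul_apply, ← map_mul, ← pow_succ]

theorem permQ_inj [Finite G] (hθ : Function.Injective θ) (hc : ∀ e ∈ E, ∀ b ∈ B, b * e = e * b)
    (hfree : ∀ e ∈ E, ∀ i, θ e i = i → e = 1) (hcop : (Nat.card E).Coprime (Nat.card B)) :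
    Function.Injective (permQ (θ := θ) hc) := by
  rw [injective_iff_map_eq_one]
  intro b hb
  apply Subtype.ext
  apply hθ
  rw [Subgroup.coe_one, map_one]
  ext1 i
  have h1 : Quotient.mk (orbS θ E) (θ b i) = Quotient.mk (orbS θ E) i := by
    have h2 := Equiv.ext_iff.1 hb (Quotient.mk (orbS θ E) i)
    exact h2
  obtain ⟨e, he, hei⟩ : ∃ e ∈ E, θ e i = θ b i := Quotient.exact h1.symm
  have h2 := pow_agree hc he b.2 hei.symm (Nat.card B)
  have h3 : (b : G) ^ Nat.card B = 1 := by
    rw [← Subgroup.coe_pow, pow_card_eq_one', Subgroup.coe_one]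
  rw [h3, map_one, Perm.one_apply] at h2
  have h4 : e ^ Nat.card B = 1 := hfree _ (E.pow_mem he _) i h2.symm
  have h5 : e ^ Nat.card E = 1 := by
    have h6 : (⟨e, he⟩ : E) ^ Nat.card E = 1 := pow_card_eq_one'
    exact congrArg Subtype.val h6
  have h6 : e = 1 := by
    have h7 : e ^ Nat.gcd (Nat.card E) (Nat.card B) = 1 := pow_gcd_eq_one.2 ⟨h5, h4⟩
    rwa [hcop.gcd_eq_one, pow_one] at h7
  rw [← hei, h6, map_one]

theorem card_quot [Finite G] [Finite X] (hfree : ∀ e ∈ E, ∀ i, θ e i = i → e = 1) :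
    Nat.card X = Nat.card (Quotient (orbS θ E)) * Nat.card E := by
  let e : (Quotient (orbS θ E)) × E → X := fun p => θ p.2 p.1.out
  have he : Function.Bijective e := by
    constructor
    · rintro ⟨q, a⟩ ⟨r, b⟩ h
      have h1 : θ a q.out = θ b r.out := h
      have h2 : q = r := by
        rw [← Quotient.out_eq q, ← Quotient.out_eq r]
        apply Quotient.sound
        refine ⟨(b : G)⁻¹ * a, E.mul_mem (E.inv_mem b.2) a.2, ?_⟩
        rw [map_mul, Perm.mul_apply, h1, map_inv, inv_ap]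
      subst h2
      have h3 : (b : G)⁻¹ * a = 1 := by
        refine hfree _ (E.mul_mem (E.inv_mem b.2) a.2) q.out ?_
        rw [map_mul, Perm.mul_apply, h1, map_inv, inv_ap]
      have h4 : a = b := Subtype.ext (inv_mul_eq_one.1 h3).symm
      rw [h4]
    · intro i
      obtain ⟨a, ha, hai⟩ : ∃ a ∈ E, θ a (Quotient.mk (orbS θ E) i).out = i :=
        Quotient.exact (Quotient.out_eq (Quotient.mk (orbS θ E) i))
      exact ⟨(Quotient.mk _ i, ⟨a, ha⟩), hai⟩
  rw [← Nat.card_congr (Equiv.ofBijective e he), Nat.card_prod]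

end embed

variable {L : Type u} [Group L] {θ : L →* Perm (Fin 275)}

theorem small (R : Rep L θ) :
    ∃ x : L, orderOf x = 5 ∧ θ x 0 = 0 ∧ Nat.card (centralizer ({x} : Set L)) ≤ 50 := by
  obtain ⟨x, hx⟩ := R.exists_of inT5
  refine ⟨x, R.orderOf_eq hx (by norm_num) (by decide +kernel) 1 (by decide +kernel), ?_, ?_⟩
  · apply Fin.ext
    rw [hx]
    decide +kernel
  have S := R.sys hx
  have hiv : ∀ g : L, g * x = x * g → ∀ i : Fin 275, iv0 (θ g i : Fin 275) = iv0 i := by
    intro g hg i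
    have h2 := S.fsum_eq hg i
    have h3 : (Finset.univ.filter fun f : Fin 275 => θ x f = f) = {0, 94, 103, 146, 149} := by
      rw [← fix5]
      apply Finset.filter_congr
      intro f _
      rw [← hx f, Fin.ext_iff]
    rw [h3] at h2
    rw [Finset.sum_insert (by decide), Finset.sum_insert (by decide), Finset.sum_insert (by decide),
      Finset.sum_insert (by decide), Finset.sum_singleton, Finset.sum_insert (by decide), Finset.sum_insert (by decide),
      Finset.sum_insert (by decide), Finset.sum_insert (by decide), Finset.sum_singleton] at h2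
    exact h2
  refine (S.card_cent_le (fun v => code (bitM 275 adjM) (lk t5) [] 5 v * 64 + iv0 v) (fun g hg i => ?_) 4 (m := 50)
    (by decide +kernel) ?_).2
  · have h1 := S.code_eq hg (F := []) (fun i hi => absurd hi (by simp)) (by simp) 5 i
    rw [h1, hiv g hg i]
  · intro g hg h0
    have f0 : Fix θ g (cyc (lk t5) 5 4) := S.fix_cyc hg 5 4 (by norm_num) h0
    have u1 := S.fix_of_unique_iv hg f0 (by decide +kernel) 5 iv0 (hiv g hg) 20 (by norm_num) (by decide +kernel)
    have f1 := f0.append (S.fix_cyc hg 5 20 (by norm_num) u1)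
    have u2 := S.fix_of_unique_iv hg f1 (by decide +kernel) 5 iv0 (hiv g hg) 10 (by norm_num) (by decide +kernel)
    have f2 := f1.append (S.fix_cyc hg 5 10 (by norm_num) u2)
    have u3 := S.fix_of_unique_iv hg f2 (by decide +kernel) 5 iv0 (hiv g hg) 3 (by norm_num) (by decide +kernel)
    have f3 := f2.append (S.fix_cyc hg 5 3 (by norm_num) u3)
    exact S.eq_one_iv hg f3 (by decide +kernel) 5 iv0 (hiv g hg) (lit := c5) (by decide +kernel)
      (nodup_of_nodupB (by decide +kernel))

theorem trans (R : Rep L θ) (i : Fin 275) : ∃ g : L, θ g 0 = i := by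
  have h1 : MaskIn K0 (0 : Fin 275) mask0 := by
    rw [← Nat.eq_of_beq_eq_true orb0]
    exact maskIn_grow K0 0 tabs inK0 6 _ (maskIn_single K0 0)
  have h2 : allBelow (fun y => Nat.testBit mask0 y) 275 = true := by decide +kernel
  obtain ⟨_, g, hg, hgy⟩ := h1 i (allBelow_spec _ _ h2 i i.2)
  rw [← R.range] at hg
  obtain ⟨l, rfl⟩ := hg
  exact ⟨l, hgy⟩

/-- the stabilizer of `0` -/
def stab (θ : L →* Perm (Fin 275)) : Subgroup L := (MulAction.stabilizer (Perm (Fin 275)) (0 : Fin 275)).comap θ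

theorem mem_stab {g : L} : g ∈ stab θ ↔ θ g 0 = 0 := Iff.rfl

theorem card_stab (hL : Nat.card L = 898128000) (R : Rep L θ) : Nat.card (stab θ) = 3265920 := by
  let _ : MulAction L (Fin 275) := MulAction.compHom (Fin 275) θ
  have h0 : MulAction.IsPretransitive L (Fin 275) := by
    refine ⟨fun x y => ?_⟩
    obtain ⟨g, rfl⟩ := trans R x
    obtain ⟨k, rfl⟩ := trans R y
    refine ⟨k * g⁻¹, ?_⟩
    show θ (k * g⁻¹) (θ g 0) = θ k 0
    rw [map_mul, map_inv, Perm.mul_apply, inv_ap]
  have h1 : (MulAction.stabilizer L (0 : Fin 275)).index = Nat.card (Fin 275) :=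
    MulAction.index_stabilizer_of_transitive L (0 : Fin 275)
  have h2 : MulAction.stabilizer L (0 : Fin 275) = stab θ := rfl
  rw [h2, Nat.card_fin] at h1
  have h3 := (stab θ).card_mul_index
  rw [h1, hL] at h3
  omega

theorem cent_le (hL : Nat.card L = 898128000) (R : Rep L θ) {y : L} (hy : orderOf y = 5) {i : Fin 275}
    (hi : θ y i = i) : Nat.card (centralizer ({y} : Set L)) ≤ 50 := by
  have hfin : Finite L := Nat.finite_of_card_ne_zero (by rw [hL]; norm_num)
  have : Fact (Nat.Prime 5) := ⟨by norm_num⟩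
  obtain ⟨x, hx, hx0, hx50⟩ := small R
  obtain ⟨g, rfl⟩ := trans R i
  have hcyc : ∀ S : Sylow 5 (stab θ), IsCyclic S := fun S => cyclic_of_sq (by rw [card_stab hL R]; norm_num) S
  have hy' : g⁻¹ * y * g ∈ stab θ := by
    rw [mem_stab, map_mul, map_mul, Perm.mul_apply, Perm.mul_apply, hi, map_inv, inv_ap]
  have ho : orderOf (g⁻¹ * y * g) = 5 := by
    have h1 : g⁻¹ * y * g = MulAut.conj g⁻¹ y := by simp
    rw [h1, MulEquiv.orderOf_eq, hy]
  obtain ⟨s, hs⟩ := conj_of_cyclic hcyc (x := (⟨x, mem_stab.2 hx0⟩ : stab θ)) (y := ⟨g⁻¹ * y * g, hy'⟩)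
    (by rw [Subgroup.orderOf_mk, hx]) (by rw [Subgroup.orderOf_mk, ho])
  obtain ⟨k, hk⟩ := mem_zpowers_iff.1 hs
  have hk' : x ^ k = (s : L) * (g⁻¹ * y * g) * (s : L)⁻¹ := congrArg Subtype.val hk
  set c : L := (s : L) * g⁻¹ with hc
  have hw : (s : L) * (g⁻¹ * y * g) * (s : L)⁻¹ = c * y * c⁻¹ := by rw [hc]; group
  rw [hw] at hk'
  -- `x` is a power of `c y c⁻¹`
  have ho2 : orderOf (c * y * c⁻¹) = 5 := by
    have h1 : c * y * c⁻¹ = MulAut.conj c y := rfl
    rw [h1, MulEquiv.orderOf_eq, hy]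
  have hz : zpowers (c * y * c⁻¹) = zpowers x := by
    apply Subgroup.eq_of_le_of_card_ge
    · rw [zpowers_le, ← hk']
      exact ⟨k, rfl⟩
    · rw [Nat.card_zpowers, Nat.card_zpowers, ho2, hx]
  obtain ⟨m, hm⟩ : x ∈ zpowers (c * y * c⁻¹) := by rw [hz]; exact mem_zpowers x
  have hm' : (c * y * c⁻¹) ^ m = x := hm
  refine le_trans ?_ hx50
  -- `t ↦ c t c⁻¹` maps `C(y)` to `C(x)`
  refine Nat.card_le_card_of_injective
    (fun t : centralizer ({y} : Set L) => (⟨c * t * c⁻¹, ?_⟩ : centralizer ({x} : Set L))) ?_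
  · rw [mem_centralizer_singleton_iff]
    have h1 : (t : L) * y = y * t := mem_centralizer_singleton_iff.1 t.2
    have h2 : Commute (c * t * c⁻¹) (c * y * c⁻¹) := by
      show c * t * c⁻¹ * (c * y * c⁻¹) = c * y * c⁻¹ * (c * t * c⁻¹)
      calc c * t * c⁻¹ * (c * y * c⁻¹) = c * (t * y) * c⁻¹ := by group
        _ = c * (y * t) * c⁻¹ := by rw [h1]
        _ = _ := by group
    have h3 := h2.zpow_right m
    rw [hm'] at h3
    exact h3.eq
  · intro a b hab
    have h1 : c * a * c⁻¹ = c * b * c⁻¹ := congrArg Subtype.val hab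
    exact Subtype.ext (mul_left_cancel (mul_right_cancel h1))

/-- no abelian subgroup of `McL` has order divisible by `2025` -/
theorem no_2025 (h : Spor.IsoMcL L) (D : Subgroup L) (hD : ∀ x ∈ D, ∀ y ∈ D, x * y = y * x) : ¬ 2025 ∣ Nat.card D := by
  intro hd
  have hL := card_L h
  have hfin : Finite L := Nat.finite_of_card_ne_zero (by rw [hL]; norm_num)
  obtain ⟨θ, R⟩ := exists_rep h
  have : Fact (Nat.Prime 5) := ⟨by norm_num⟩
  have : Fact (Nat.Prime 3) := ⟨by norm_num⟩
  have hpos : 2025 ≤ Nat.card D := Nat.le_of_dvd Nat.card_pos hd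
  obtain ⟨E', hE'⟩ := Sylow.exists_subgroup_card_pow_prime (G := D) 5 (n := 2) (dvd_trans (by norm_num) hd)
  obtain ⟨B', hB'⟩ := Sylow.exists_subgroup_card_pow_prime (G := D) 3 (n := 4) (dvd_trans (by norm_num) hd)
  set E : Subgroup L := E'.map D.subtype with hE
  set B : Subgroup L := B'.map D.subtype with hB
  have hEc : Nat.card E = 25 := by
    rw [hE, Nat.card_congr (E'.equivMapOfInjective _ D.subtype_injective).symm.toEquiv, hE']
    norm_num
  have hBc : Nat.card B = 81 := by
    rw [hB, Nat.card_congr (B'.equivMapOfInjective _ D.subtype_injective).symm.toEquiv, hB']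
    norm_num
  have hED : E ≤ D := Subgroup.map_subtype_le _
  have hBD : B ≤ D := Subgroup.map_subtype_le _
  have hcomm : ∀ e ∈ E, ∀ b ∈ B, b * e = e * b := fun e he b hb => hD b (hBD hb) e (hED he)
  have hno : ∀ z ∈ D, orderOf z = 5 → ∀ i, θ z i ≠ i := by
    intro z hz hz5 i hi
    have h1 := cent_le hL R hz5 hi
    have h2 : D ≤ centralizer ({z} : Set L) := fun w hw => mem_centralizer_singleton_iff.2 (hD w hw z hz)
    have h3 := Subgroup.card_le_of_le h2
    omega
  have hfree : ∀ e ∈ E, ∀ i, θ e i = i → e = 1 := by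
    intro e he i hi
    by_contra hne
    have h1 : orderOf e ∣ 5 ^ 2 := by
      have h2 := orderOf_dvd_natCard (⟨e, he⟩ : E)
      rw [Subgroup.orderOf_mk, hEc] at h2
      exact h2
    obtain ⟨k, hk, hk2⟩ := (Nat.dvd_prime_pow (by norm_num : Nat.Prime 5)).1 h1
    interval_cases k
    · rw [pow_zero, orderOf_eq_one_iff] at hk2
      exact hne hk2
    · rw [pow_one] at hk2
      exact hno e (hED he) hk2 i hi
    · refine hno (e ^ 5) (D.pow_mem (hED he) 5) ?_ i ?_
      · rw [orderOf_pow' e (by norm_num), hk2]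
        norm_num
      · rw [map_pow]
        exact Perm.pow_apply_eq_self_of_apply_eq_self hi 5
  have hq := card_quot hfree
  rw [Nat.card_fin, hEc] at hq
  have hq' : Nat.card (Quotient (orbS θ E)) = 11 := by omega
  have hinj := permQ_inj R.inj hcomm hfree (by rw [hEc, hBc]; norm_num)
  have e11 : Quotient (orbS θ E) ≃ Fin (3 * 3 + 2) := Finite.equivFinOfCardEq hq'
  let f : B →* Perm (Fin (3 * 3 + 2)) := (Equiv.permCongrHom e11).toMonoidHom.comp (permQ hcomm)
  have hf : Function.Injective f := (Equiv.permCongrHom e11).injective.comp hinj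
  have h3 := (S2505.result 3 (by norm_num)).2.2.2
  have h4 : Nat.card f.range ≤ 2 * 3 ^ 3 := by
    refine h3 ⟨f.range, ⟨⟨?_⟩⟩, rfl⟩
    rintro ⟨_, a, rfl⟩ ⟨_, b, rfl⟩
    apply Subtype.ext
    show f a * f b = f b * f a
    rw [← map_mul, ← map_mul]
    congr 1
    exact Subtype.ext (hD a (hBD a.2) b (hBD b.2))
  have h5 : Nat.card f.range = 81 := by
    rw [← hBc]
    exact (Nat.card_congr (MonoidHom.ofInjective hf).toEquiv).symm
  rw [h5] at h4
  norm_num at h4

end Cfsg.Agent.H811.BG.McLAb
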