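import Cfsg.Agent.H811.BG.Tool
import Cfsg.Agent.H811.BG.McLAb
import Cfsg.Agent.H904.McLCent
import Cfsg.Agent.Schreier.McLaughlin
import Cfsg.Agent.NotCT.Orders
import Cfsg.Agent.S2073

/-!
# Abelian regular subgroups: `McL` (S3561, helper811)
-/

set_option autoImplicit false

namespace Cfsg.Agent.H811.BG

open Cfsg Subgroup
open Cfsg.Agent.OrdDiv Cfsg.Agent.H57.BG
open Cfsg.Agent.H257.El (Known okPow okPair surv Top noOrd_of_cent noOrd_congr)

universe u

theorem row_mcl (tab : OrderTable.{u}) (known : Known.{u}) {T : Type u} [Group T] (h : Spor.IsoMcL T) : Row T := by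
  have hn : Nat.card T = 898128000 := NotCT.Orders.mcl h
  have : Finite T := Nat.finite_of_card_ne_zero (by rw [hn]; norm_num)
  have hs : IsSimpleGroup T := by
    obtain ⟨e⟩ := h
    have : IsSimpleGroup Spor.McL := Schreier.McLaughlin.isSimple_mcl
    exact e.isSimpleGroup
  have hc : center T = ⊥ := center_bot (by rw [hn]; norm_num)
  have hi : (Inn T).index = 2 := by
    obtain ⟨e⟩ := h
    exact inn_index e S2073.result
  have c11 : ∀ x : T, orderOf x = 11 → Nat.card (centralizer ({x} : Set T)) = 11 := by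
    intro x hx
    have h1 := (H904.McLCent.eleven h (zpowers x) (by rw [Nat.card_zpowers, hx])).1
    rwa [zpowers_eq_closure, centralizer_closure] at h1
  have hno7 : ∀ z : T, orderOf z ≠ 11 * 7 := noOrd_of_cent (by norm_num) c11 (by norm_num) (by norm_num)
  have hno3 : ∀ z : T, orderOf z ≠ 11 * 3 := noOrd_of_cent (by norm_num) c11 (by norm_num) (by norm_num)
  intro A L hR
  obtain ⟨O, hO, N, hT, g, hg, -, hcard, -, hidx⟩ := hR.exists_name tab known (r := 11)
    (l := [(2, 7), (3, 6), (5, 3), (7, 1), (11, 1)]) hn (by decide +kernel) (by norm_num) (by norm_num) (by norm_num)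
    [7] (by simp) (fun s hs => by
      rw [List.mem_singleton] at hs
      subst hs
      exact ⟨by norm_num, ⟨by norm_num, by norm_num⟩, hno7, by decide +kernel⟩)
  have hsurv : (surv 898128000 [(2, 7), (3, 6), (5, 3), (7, 1), (11, 1)] 11 [7]).all
      (fun g => (898128000 / ordN g == 45) || (ordN g == 443520)) = true := by decide +kernel
  rw [List.all_eq_true] at hsurv
  have h2 := hsurv g hg
  rw [Bool.or_eq_true] at h2
  rcases h2 with h2 | h2
  · have h3 : 898128000 / ordN g = 45 := by simpa using h2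
    rw [h3] at hidx
    exact hR.false_of_oneSq hn (l := [(2, 7), (3, 6), (5, 3), (7, 1), (11, 1)]) (by decide +kernel) hidx
      (by decide +kernel)
  have h3 : ordN g = 443520 := by simpa using h2
  rw [h3] at hidx hcard
  have hidx' : L.index ∣ 2025 := hidx
  -- 225 divides the index
  obtain ⟨h9, h25⟩ : 3 ^ 2 ∣ L.index ∧ 5 ^ 2 ∣ L.index := by
    obtain ⟨r, s, hrs, hr2, hs2, ⟨k, hk, hk2⟩, ⟨j, hj, hj2⟩⟩ := two_sq hR
      (l := [(3, 4), (5, 2)]) (n := 2025) (by decide +kernel) hidx'
    simp only [List.mem_cons, List.not_mem_nil, or_false, Prod.mk.injEq] at hk hj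
    rcases hk with ⟨rfl, rfl⟩ | ⟨rfl, rfl⟩ <;>
      rcases hj with ⟨rfl, rfl⟩ | ⟨rfl, rfl⟩ <;>
      first
        | exact absurd rfl hrs
        | exact ⟨hr2, hs2⟩
        | exact ⟨hs2, hr2⟩
  have hmul : Nat.card L * L.index = 898128000 := by rw [L.card_mul_index, hn]
  -- 27 does not divide `|L|`
  have h27 : ¬ 3 ^ 3 ∣ Nat.card L := by
    intro h27
    have h1 := hT.pow_dvd_iff Nat.prime_three (by norm_num) (fun z => by rw [← Subgroup.orderOf_coe]; exact hno3 z)
      (fun b hb hd => by
        have h5 : 3 ^ b * 3 ^ 2 ∣ Nat.card L * L.index := Nat.mul_dvd_mul hd h9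
        rw [hmul, ← pow_add] at h5
        have h6 : b ≤ 4 := by
          by_contra hcon
          have h7 : 3 ^ 7 ∣ 898128000 := (pow_dvd_pow 3 (by omega)).trans h5
          norm_num at h7
        interval_cases b <;> norm_num) (by norm_num) h27
    rw [hcard] at h1
    norm_num at h1
  -- the index
  obtain ⟨c, hc'⟩ := hidx'
  obtain ⟨m, hm⟩ := h25
  have hmc : m * c = 3 ^ 4 := by
    rw [hm] at hc'
    have : 25 * (m * c) = 2025 := by rw [hc']; ring
    omega
  have hL : Nat.card L = 443520 * c := by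
    have h5 : Nat.card L * L.index = 443520 * c * L.index := by
      rw [hmul, mul_assoc, mul_comm c, ← hc']
      norm_num
    exact Nat.eq_of_mul_eq_mul_right (Nat.pos_of_ne_zero (Subgroup.index_ne_zero_of_finite)) h5
  have hc1 : c = 1 := by
    have h5 : c ∣ 3 ^ 4 := Dvd.intro_left m hmc
    obtain ⟨i, -, hi⟩ := (Nat.dvd_prime_pow Nat.prime_three).1 h5
    rcases Nat.eq_zero_or_pos i with rfl | hi0
    · rw [hi, pow_zero]
    · exfalso
      apply h27
      rw [hL]
      have h6 : 3 ∣ c := by rw [hi]; exact dvd_pow_self 3 (by omega)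
      have h7 : 3 ^ 2 * 3 ∣ 443520 * c := Nat.mul_dvd_mul (by norm_num) h6
      exact h7
  rw [hc1, mul_one] at hc'
  -- the abelian subgroup
  have h5 := hR.index_dvd hc
  rw [← hc', hi] at h5
  have h6 : 2025 ∣ Nat.card (inner A) := Nat.Coprime.dvd_of_dvd_mul_right (by norm_num) h5
  exact McLAb.no_2025 h (inner A) (fun x hx y hy => hR.inner_comm hc hx hy) h6

end Cfsg.Agent.H811.BG
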