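import Cfsg.Agent.H811.BG.Tool
import Cfsg.Agent.H488.PBRow.TitsThree
import Cfsg.Agent.H604.Sax.Tits
import Cfsg.Agent.ClassicalGeometry.PSL2Basic
import Cfsg.Agent.H867.TitsOut
import Cfsg.Agent.CpAutTits.Row
import Cfsg.Agent.NotCT.Orders
import Cfsg.Agent.S1074

/-!
# Abelian regular subgroups: the Tits group (S3561, helper811)
-/

set_option autoImplicit false

namespace Cfsg.Agent.H811.BG

open Cfsg Subgroup
open Cfsg.Agent.OrdDiv Cfsg.Agent.H57.BG
open Cfsg.Agent.H257.El (Known okPow okPow_spec okPair surv Top noOrd_of_cent noOrd_congr card_quot_mul)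

universe u v

/-- elements of order 5 and 2 which commute -/
theorem tits_ten {T : Type u} [Group T] (h : Lie.IsoTits T) {y z : T} (hy : orderOf y = 5) (hz : orderOf z = 2)
    (hyz : z * y = y * z) : Nat.card ↥(centralizer ({y, z} : Set T)) = 10 := by
  obtain ⟨e⟩ := CpAutTits.Row.exists_equiv h
  have h1 := CpAutTits.Ten.facts.ten (e y) (by rw [MulEquiv.orderOf_eq, hy]) (e z) (by rw [MulEquiv.orderOf_eq, hz])
    (by rw [← map_mul, hyz, map_mul])
  rw [← h1]
  refine Nat.card_congr (Equiv.subtypeEquiv e.toEquiv fun x => ?_)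
  show x ∈ centralizer ({y, z} : Set T) ↔ e x ∈ centralizer ({e y} : Set _) ⊓ centralizer ({e z} : Set _)
  rw [mem_inf, mem_centralizer_singleton_iff, mem_centralizer_singleton_iff, mem_centralizer_iff, ← map_mul,
    ← map_mul, ← map_mul, ← map_mul, e.injective.eq_iff, e.injective.eq_iff]
  constructor
  · intro h
    exact ⟨(h y (by simp)).symm, (h z (by simp)).symm⟩
  · rintro ⟨ha, hb⟩ w hw
    rcases hw with rfl | hw
    · exact ha.symm
    · rw [Set.mem_singleton_iff] at hw
      rw [hw]
      exact hb.symm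

theorem simple_of_equiv {K : Type u} [Group K] {X : Type v} [Group X] (hs : IsSimpleGroup X) (e : K ≃* X) :
    IsSimpleGroup K := e.isSimpleGroup

theorem card_psl_le {F : Type*} [Field F] [Fintype F] (hF : Fintype.card F = 25) :
    Nat.card (Matrix.ProjectiveSpecialLinearGroup (Fin 2) F) ≤ 15600 := by
  have h1 := ClassicalGeometry.PSL2Basic.card_SL2 (F := F)
  rw [hF] at h1
  have h2 : Nat.card (Matrix.ProjectiveSpecialLinearGroup (Fin 2) F) ≤
      Nat.card (Matrix.SpecialLinearGroup (Fin 2) F) :=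
    Nat.card_le_card_of_surjective (QuotientGroup.mk' _) (QuotientGroup.mk'_surjective _)
  have h3 : Nat.card (Matrix.SpecialLinearGroup (Fin 2) F) = 15600 := h1.trans (by norm_num)
  omega

theorem row_tits (tab : OrderTable.{u}) (known : Known.{u}) {T : Type u} [Group T] (h : Lie.IsoTits T) : Row T := by
  have hn : Nat.card T = 17971200 := NotCT.Orders.tits h
  have : Finite T := Nat.finite_of_card_ne_zero (by rw [hn]; norm_num)
  have hs : IsSimpleGroup T := by
    obtain ⟨e⟩ := h
    exact simple_of_equiv (X := Lie.TitsGroup) S1074.result.2.1 e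
  have hc : center T = ⊥ := center_bot (by rw [hn]; norm_num)
  have hi : (Inn T).index ≤ 2 := H867.TitsOut.card_out_le h
  have hi0 : 0 < (Inn T).index := by
    have : Finite (MulAut T) := inferInstance
    exact Nat.pos_of_ne_zero Subgroup.index_ne_zero_of_finite
  intro A L hR
  have hidx : L.index ∣ 17971200 := by rw [← hn]; exact Subgroup.index_dvd_card L
  have hnot : ∀ m, 3 ≤ m → ¬ m ∣ (Inn T).index := fun m hm hd => by
    have := Nat.le_of_dvd hi0 hd
    omega
  -- an element of order 3 in `A₀`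
  have three : 3 ^ 2 ∣ L.index → ¬ 5 ^ 2 ∣ L.index := by
    intro h9 h25
    obtain ⟨z, -, hz, hd⟩ := cent hR hc Nat.prime_three h9 (hnot _ (by norm_num))
    rw [H488.PBRow.TitsThree.card_cent_three h hz] at hd
    have h5 := h25.trans hd
    interval_cases hI : (Inn T).index
    · norm_num at h5
    · norm_num at h5
  -- elements of order 2 and 5 in `A₀`
  have five : 2 ^ 2 ∣ L.index → ¬ 5 ^ 2 ∣ L.index := by
    intro h4 h25
    obtain ⟨z, hzA, hz, -⟩ := cent hR hc Nat.prime_two h4 (hnot _ (by norm_num))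
    obtain ⟨y, hyA, hy, -⟩ := cent hR hc Nat.prime_five h25 (hnot _ (by norm_num))
    have hd := hR.index_dvd_cent hc (X := {y, z}) (by
      rintro w (rfl | hw)
      · exact hyA
      · rw [Set.mem_singleton_iff] at hw
        rw [hw]
        exact hzA)
    rw [tits_ten h hy hz (hR.inner_comm hc hzA hyA)] at hd
    have h5 := h25.trans hd
    interval_cases hI : (Inn T).index
    · norm_num at h5
    · norm_num at h5
  -- 9 does not divide the index
  have nine : ¬ 3 ^ 2 ∣ L.index := by
    intro h9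
    have h5 : ¬ 5 ∣ L.index := fun h5 => three h9 (hR.sq_dvd (by norm_num) h5)
    have h5L : 5 ∣ Nat.card L := Reg.dvd_card_of_not_dvd (by norm_num) (by rw [hn]; norm_num) h5
    have h13L : 13 ∣ Nat.card L := hR.dvd_card_of_sq (by norm_num) (by rw [hn]; norm_num) (by rw [hn]; norm_num)
    have c13 : ∀ x : T, orderOf x = 13 → Nat.card (centralizer ({x} : Set T)) = 13 := H604.Sax.self_tits h
    obtain ⟨O, hO, N, -, g, hg, -, -, hgd⟩ := H57.BG.exists_name tab known (r := 13)
      (l := [(2, 11), (3, 3), (5, 2), (13, 1)]) hn (by decide +kernel) (by norm_num) (by norm_num) [5] (by simp)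
      (fun s hs => by
        rw [List.mem_singleton] at hs
        subst hs
        exact ⟨by norm_num, noOrd_of_cent (by norm_num) c13 (by norm_num) (by norm_num), by decide +kernel⟩)
      hR.proper h13L (fun s hs => by
        rw [List.mem_singleton] at hs
        subst hs
        exact h5L)
    have hsurv : (surv 17971200 [(2, 11), (3, 3), (5, 2), (13, 1)] 13 [5]).all
        (fun g => ordN g % 6 == 0) = true := by decide +kernel
    rw [List.all_eq_true] at hsurv
    have h6 : 6 ∣ ordN g := Nat.dvd_of_mod_eq_zero (by simpa using hsurv g hg)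
    have h6L : 6 ∣ Nat.card L := h6.trans hgd
    obtain ⟨O', hO', N', -, hO1, hNi, F, _, _, hF, ⟨e⟩⟩ := H604.Sax.full_tits tab known h hR.proper (fun p hp hd => by
      obtain ⟨k, hk, -⟩ := OrdDiv.exists_pair (l := [(2, 11), (3, 3), (5, 2), (13, 1)]) (N := 17971200)
        (by decide +kernel) hp (j := 1) le_rfl (by rwa [pow_one])
      simp only [List.mem_cons, List.not_mem_nil, or_false, Prod.mk.injEq] at hk
      rcases hk with ⟨rfl, -⟩ | ⟨rfl, -⟩ | ⟨rfl, -⟩ | ⟨rfl, -⟩
      · exact (by norm_num : 2 ∣ 6).trans h6L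
      · exact (by norm_num : 3 ∣ 6).trans h6L
      · exact h5L
      · exact h13L)
    have hLle : Nat.card L ≤ 46800 := by
      rw [← card_quot_mul O', hO1, mul_one, ← N'.card_mul_index, Nat.card_congr e.toEquiv]
      have h7 : N'.index ≤ 3 := Nat.le_of_dvd (by norm_num) hNi
      exact (Nat.mul_le_mul (card_psl_le hF) h7).trans (by norm_num)
    obtain ⟨z, -, hz, hd⟩ := cent hR hc Nat.prime_three h9 (hnot _ (by norm_num))
    rw [H488.PBRow.TitsThree.card_cent_three h hz] at hd
    have hle : L.index ≤ 216 := (Nat.le_of_dvd (by omega) hd).trans (by omega)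
    have hmul : Nat.card L * L.index = 17971200 := by rw [L.card_mul_index, hn]
    have h8 : Nat.card L * L.index ≤ 46800 * 216 := Nat.mul_le_mul hLle hle
    rw [hmul] at h8
    norm_num at h8
  obtain ⟨r, s, hrs, hr2, hs2, ⟨k, hk, hk2⟩, ⟨j, hj, hj2⟩⟩ := two_sq hR
    (l := [(2, 11), (3, 3), (5, 2), (13, 1)]) (n := 17971200) (by decide +kernel) hidx
  simp only [List.mem_cons, List.not_mem_nil, or_false, Prod.mk.injEq] at hk hj
  rcases hk with ⟨rfl, rfl⟩ | ⟨rfl, rfl⟩ | ⟨rfl, rfl⟩ | ⟨rfl, rfl⟩ <;>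
    rcases hj with ⟨rfl, rfl⟩ | ⟨rfl, rfl⟩ | ⟨rfl, rfl⟩ | ⟨rfl, rfl⟩ <;>
    first
      | exact absurd rfl hrs
      | omega

end Cfsg.Agent.H811.BG
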